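import Groth.Prelude.Def_Disc
import Groth.Agent.Tate.Different
import Groth.Agent.S2235
import Groth.Agent.S9147
import Groth.Agent.S9254
import Groth.Agent.LCIPres.Map
import Mathlib.RingTheory.QuasiFinite.Basic
import Mathlib.RingTheory.KrullDimension.Zero
import Mathlib.RingTheory.HopkinsLevitzki

noncomputable section

universe u

open MvPolynomial TensorProduct

namespace Groth.Agent.NoetherGCI

theorem isRelGCI_of_quasiFinite {R : Type u} [CommRing R] {n : ℕ} (F : Fin n → MvPolynomial (Fin n) R)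
    [Algebra.QuasiFinite R (Synt.RelGCIRing R n n F)] : Synt.IsRelGCI R n n F := by
  intro p hnt
  refine ⟨le_rfl, ?_⟩
  haveI := hnt
  haveI : Ring.KrullDimLE 0 (p.asIdeal.Fiber (Synt.RelGCIRing R n n F)) := by
    have h := (isArtinianRing_iff_isNoetherianRing_krullDimLE_zero (R := p.asIdeal.Fiber (Synt.RelGCIRing R n n F))).1
      inferInstance
    exact h.2
  rw [Nat.sub_self]
  exact ringKrullDimZero_iff_ringKrullDim_eq_zero.1 inferInstance

variable {A B : Type u} [CommRing A] [CommRing B] [Algebra A B] {n : ℕ}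

theorem ker_aeval_xval (φ₀ : MvPolynomial (Fin n) A →ₐ[A] B) :
    RingHom.ker (aeval (Tate.xval φ₀) : MvPolynomial (Fin n) B →ₐ[B] B) =
      Ideal.span (Set.range fun j => X j - C (Tate.xval φ₀ j)) := by
  refine le_antisymm (fun q hq => ?_) (Ideal.span_le.2 ?_)
  · have := Tate.sub_eval_mem φ₀ q
    rwa [RingHom.mem_ker.1 hq, map_zero, sub_zero] at this
  · rintro _ ⟨j, rfl⟩
    simp [RingHom.mem_ker]

theorem isExact_sub_C (φ₀ : MvPolynomial (Fin n) A →ₐ[A] B) :
    KoszulExt.IsExact fun j => X j - C (Tate.xval φ₀ j) := by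
  let g₀ : Fin n → MvPolynomial (Fin n) B := fun j => X j - C (Tate.xval φ₀ j)
  let e : Synt.RelGCIRing B n n g₀ ≃ₐ[B] B :=
    (Ideal.quotientEquivAlgOfEq B (ker_aeval_xval φ₀).symm).trans
      (Ideal.quotientKerAlgEquivOfSurjective (f := (aeval (Tate.xval φ₀) : MvPolynomial (Fin n) B →ₐ[B] B))
        fun b => ⟨C b, by simp⟩)
  haveI : Algebra.QuasiFinite B (Synt.RelGCIRing B n n g₀) :=
    Algebra.QuasiFinite.of_surjective_algHom e.symm.toAlgHom e.symm.surjective
  exact (KoszulExt.isExact_iff g₀).2 (Groth.Agent.S9254.result B n n g₀ (isRelGCI_of_quasiFinite g₀))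

theorem exists_diag_equiv (φ₀ : MvPolynomial (Fin n) A →ₐ[A] B) :
    ∃ e : MvPolynomial (Fin n) B ≃+* MvPolynomial (Fin n) A ⊗[A] B,
      (∀ p, e (map (algebraMap A B) p) = p ⊗ₜ[A] (1 : B)) ∧
      ∀ q, Algebra.TensorProduct.productMap φ₀ (AlgHom.id A B) (e q) = aeval (Tate.xval φ₀) q := by
  let inR : B →ₐ[A] MvPolynomial (Fin n) A ⊗[A] B := Algebra.TensorProduct.includeRight
  let Φ : MvPolynomial (Fin n) B →+* MvPolynomial (Fin n) A ⊗[A] B :=
    eval₂Hom inR.toRingHom fun j => (X j : MvPolynomial (Fin n) A) ⊗ₜ[A] (1 : B)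
  let Ψ : MvPolynomial (Fin n) A ⊗[A] B →ₐ[A] MvPolynomial (Fin n) B :=
    Algebra.TensorProduct.lift (mapAlgHom (Algebra.ofId A B)) (IsScalarTower.toAlgHom A B (MvPolynomial (Fin n) B))
      fun _ _ => Commute.all _ _
  have hm : ∀ p : MvPolynomial (Fin n) A, mapAlgHom (Algebra.ofId A B) p = map (algebraMap A B) p := fun _ => rfl
  have hΦmap : ∀ p : MvPolynomial (Fin n) A, Φ (map (algebraMap A B) p) = p ⊗ₜ[A] (1 : B) := by
    intro p
    induction p using MvPolynomial.induction_on with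
    | C a =>
      simp only [map_C, Φ, eval₂Hom_C]
      change (1 : MvPolynomial (Fin n) A) ⊗ₜ[A] algebraMap A B a = _
      rw [Algebra.algebraMap_eq_smul_one, ← TensorProduct.smul_tmul, Algebra.smul_def, mul_one]
      rfl
    | add p q hp hq => rw [map_add, map_add, hp, hq, TensorProduct.add_tmul]
    | mul_X p i hp =>
      rw [map_mul, map_mul, hp, map_X]
      simp [Φ]
  have hΨΦ : ∀ q, Ψ (Φ q) = q := by
    intro q
    induction q using MvPolynomial.induction_on with
    | C b => simp [Φ, Ψ, inR]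
    | add p q hp hq => rw [map_add, map_add, hp, hq]
    | mul_X p i hp => rw [map_mul, map_mul, hp]; simp [Φ, Ψ, hm]
  have hΦΨ : ∀ z, Φ (Ψ z) = z := by
    intro z
    induction z using TensorProduct.induction_on with
    | zero => simp
    | tmul p b =>
      have h1 : Ψ (p ⊗ₜ[A] b) = map (algebraMap A B) p * C b := by simp [Ψ, hm]
      rw [h1, map_mul, hΦmap]
      simp [Φ, inR]
    | add x y hx hy => rw [map_add, map_add, hx, hy]
  refine ⟨RingEquiv.ofBijective Φ ⟨Function.LeftInverse.injective hΨΦ, fun z => ⟨Ψ z, hΦΨ z⟩⟩, hΦmap, fun q => ?_⟩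
  change Algebra.TensorProduct.productMap φ₀ (AlgHom.id A B) (Φ q) = _
  induction q using MvPolynomial.induction_on with
  | C b => simp [Φ, inR]
  | add p q hp hq => rw [map_add, map_add, hp, hq, map_add]
  | mul_X p i hp => rw [map_mul, map_mul, hp, map_mul]; simp [Φ]

theorem lmul'_map_eq {A B P : Type u} [CommRing A] [CommRing B] [CommRing P] [Algebra A B] [Algebra A P]
    (φ : P →ₐ[A] B) (z : P ⊗[A] B) :
    Algebra.TensorProduct.lmul' (S := B) A (Algebra.TensorProduct.map φ (AlgHom.id A B) z) =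
      Algebra.TensorProduct.productMap φ (AlgHom.id A B) z := by
  induction z using TensorProduct.induction_on with
  | zero => simp
  | tmul u v => simp
  | add x y hx hy => simp only [map_add, hx, hy]

theorem noetherDifferent_gci {A : Type u} [CommRing A] {n : ℕ} (f : Fin n → MvPolynomial (Fin n) A)
    [Algebra.QuasiFinite A (MvPolynomial (Fin n) A ⧸ Ideal.span (Set.range f))] :
    Module.Flat A (MvPolynomial (Fin n) A ⧸ Ideal.span (Set.range f)) ∧
      Disc.noetherDifferent A (MvPolynomial (Fin n) A ⧸ Ideal.span (Set.range f)) =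
        Ideal.span {Ideal.Quotient.mk (Ideal.span (Set.range f))
          (Matrix.det (Matrix.of fun i j => MvPolynomial.pderiv j (f i)))} := by
  classical
  haveI : Algebra.QuasiFinite A (Synt.RelGCIRing A n n f) := ‹_›
  have hgci : Synt.IsRelGCI A n n f := isRelGCI_of_quasiFinite f
  haveI hflat : Module.Flat A (MvPolynomial (Fin n) A ⧸ Ideal.span (Set.range f)) :=
    (Groth.Agent.S9147.result A n n f hgci).1
  refine ⟨hflat, ?_⟩
  let φ₀ := Ideal.Quotient.mkₐ A (Ideal.span (Set.range f))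
  obtain ⟨e, hemap, hepm⟩ := exists_diag_equiv φ₀
  let g : Fin n → MvPolynomial (Fin n) A ⊗[A] (MvPolynomial (Fin n) A ⧸ Ideal.span (Set.range f)) :=
    fun j => e (X j - C (Tate.xval φ₀ j))
  have hg : LCI.IsKoszulRegularSeq _ (List.ofFn g) :=
    (KoszulExt.isExact_iff g).1 (LCIPres.isExact_equiv e (isExact_sub_C φ₀))
  have hgker : Ideal.span (Set.range g) =
      RingHom.ker (Algebra.TensorProduct.productMap φ₀ (AlgHom.id A _)) := by
    rw [show Set.range g = e.toRingHom '' Set.range (fun j => X j - C (Tate.xval φ₀ j)) from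
      Set.range_comp e _, ← Ideal.map_span, ← ker_aeval_xval φ₀]
    refine le_antisymm (Ideal.map_le_iff_le_comap.2 fun q hq => ?_) fun z hz => ?_
    · exact RingHom.mem_ker.2 ((hepm q).trans hq)
    · rw [← e.apply_symm_apply z] at hz ⊢
      exact Ideal.mem_map_of_mem _ (RingHom.mem_ker.2 ((hepm _).symm.trans hz))
  obtain ⟨c, hc⟩ := Tate.exists_matrix φ₀ f fun i => Ideal.Quotient.eq_zero_iff_mem.2 (Ideal.subset_span ⟨i, rfl⟩)
  have hc' : ∀ i, f i ⊗ₜ[A] (1 : MvPolynomial (Fin n) A ⧸ Ideal.span (Set.range f)) =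
      ∑ j, (c.map e) i j * g j := fun i => by
    rw [← hemap, hc i, map_sum]
    simp only [map_mul, Matrix.map_apply]
    rfl
  have hann := Groth.Agent.S2235.result (A := A) f (Groth.Agent.S9254.result A n n f hgci) g hg hgker (c.map e) hc'
  rw [Disc.noetherDifferent, hann, Ideal.map_span, Set.image_singleton]
  congr 2
  have hd := Tate.lmul'_delta φ₀ c f hc
  rw [Tate.lmul'_psi] at hd
  rw [show (c.map e).det = e c.det from (RingHom.map_det e.toRingHom c).symm]
  refine ((lmul'_map_eq φ₀ _).trans ((hepm c.det).trans hd)).trans ?_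
  rw [RingHom.map_det]
  rfl

end Groth.Agent.NoetherGCI
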